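import Cfsg.Prelude.Def_Characters
import Cfsg.Agent.Lib.Chars.Induced
import Mathlib

/-!
Permutations of irreducible characters coming from maps of the group: fixed-point counting
(Brauer's permutation lemma), conjugates of characters of a normal subgroup, conjugacy of
constituents.
-/

set_option autoImplicit false
open Cfsg
open scoped ComplexConjugate

namespace Cfsg.Agent.Lib.CharSums

open Cfsg.Agent.Lib.Chars Classical

universe u
variable {G : Type u} [Group G]

theorem card_conjugators (a b : G) [Finite G] :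
    (Nat.card {h : G // h * a * h⁻¹ = b} : ℂ) =
      ∑ χ : IrrCharacter G, (χ : G → ℂ) a * conj ((χ : G → ℂ) b) := by
  haveI := Fintype.ofFinite G
  by_cases hc : IsConj a b
  · rw [column_orthogonality_of_isConj hc]
    obtain ⟨r, hr⟩ := isConj_iff.1 hc
    congr 1
    refine Nat.card_congr
      { toFun := fun h => ⟨r⁻¹ * h.1, ?_⟩
        invFun := fun c => ⟨r * c.1, ?_⟩
        left_inv := fun h => Subtype.ext (by simp)
        right_inv := fun c => Subtype.ext (by simp) }
    · rw [Subgroup.mem_centralizer_singleton_iff]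
      calc r⁻¹ * h.1 * a = r⁻¹ * (h.1 * a * h.1⁻¹) * h.1 := by group
        _ = r⁻¹ * (r * a * r⁻¹) * h.1 := by rw [h.2, hr]
        _ = a * (r⁻¹ * h.1) := by group
    · calc r * c.1 * a * (r * c.1)⁻¹ = r * (c.1 * a) * c.1⁻¹ * r⁻¹ := by group
        _ = r * (a * c.1) * c.1⁻¹ * r⁻¹ := by rw [Subgroup.mem_centralizer_singleton_iff.1 c.2]
        _ = b := by rw [← hr]; group
  · rw [column_orthogonality_of_not_isConj hc]
    have : IsEmpty {h : G // h * a * h⁻¹ = b} := ⟨fun h => hc (isConj_iff.2 ⟨h.1, h.2⟩)⟩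
    simp

/-- Brauer's permutation lemma in the form of a fixed-point count: if precomposition with `α`
permutes irreducible characters, then `|G|` times the number of fixed characters is the number of
pairs `(h, k)` with `h` conjugating `α k` to `k`. -/
theorem card_mul_card_fixed [Finite G] (α : G → G)
    (hα : ∀ χ : IrrCharacter G, IsIrrCharacter G (fun k => (χ : G → ℂ) (α k))) :
    Nat.card G * Nat.card {χ : IrrCharacter G // ∀ k, (χ : G → ℂ) (α k) = (χ : G → ℂ) k} =
      Nat.card {p : G × G // p.1 * α p.2 * p.1⁻¹ = p.2} := by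
  haveI := Fintype.ofFinite G
  have hrow : ∀ χ : IrrCharacter G, ∑ k : G, (χ : G → ℂ) (α k) * conj ((χ : G → ℂ) k) =
      if ∀ k, (χ : G → ℂ) (α k) = (χ : G → ℂ) k then (Nat.card G : ℂ) else 0 := by
    intro χ
    have h := classInner_irr ⟨_, hα χ⟩ χ
    rw [classInner, inv_mul_eq_iff_eq_mul₀ natCard_ne_zero] at h
    rw [h]
    by_cases hf : ∀ k, (χ : G → ℂ) (α k) = (χ : G → ℂ) k
    · rw [if_pos hf, if_pos (Subtype.ext (funext hf)), mul_one]
    · rw [if_neg hf, if_neg (fun he => hf fun k => congrFun (congrArg Subtype.val he) k), mul_zero]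
  have h1 : ((Nat.card G * Nat.card {χ : IrrCharacter G // ∀ k, (χ : G → ℂ) (α k) = (χ : G → ℂ) k} : ℕ) : ℂ) =
      ∑ χ : IrrCharacter G, ∑ k : G, (χ : G → ℂ) (α k) * conj ((χ : G → ℂ) k) := by
    simp only [hrow]
    rw [Finset.sum_ite, Finset.sum_const_zero, add_zero, Finset.sum_const, nsmul_eq_mul,
      Nat.card_eq_fintype_card (α := {χ : IrrCharacter G // ∀ k, (χ : G → ℂ) (α k) = (χ : G → ℂ) k}),
      Fintype.card_subtype]
    push_cast
    ring
  rw [Finset.sum_comm] at h1
  simp only [← card_conjugators] at h1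
  rw [← Nat.cast_sum] at h1
  rw [Nat.cast_injective h1, Nat.card_congr
    ({ toFun := fun p => ⟨p.1.2, p.1.1, p.2⟩
       invFun := fun s => ⟨(s.2.1, s.1), s.2.2⟩
       left_inv := fun _ => rfl
       right_inv := fun _ => rfl } :
      {p : G × G // p.1 * α p.2 * p.1⁻¹ = p.2} ≃ (k : G) × {h : G // h * α k * h⁻¹ = k}),
    Nat.card_sigma]

/-- Precomposition with a group isomorphism preserves irreducibility. -/
theorem isIrrCharacter_comp_equiv {H : Type*} [Group H] [Finite H] (e : H ≃* G)
    {χ : G → ℂ} (hχ : IsIrrCharacter G χ) : IsIrrCharacter H (fun h => χ (e h)) := by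
  haveI : Finite G := Finite.of_equiv H e.toEquiv
  haveI := Fintype.ofFinite H
  haveI := Fintype.ofFinite G
  obtain ⟨n, ρ, hρ, hc⟩ := id hχ
  rw [isIrrCharacter_iff_classInner_eq_one
    ⟨n, ρ.comp e.toMonoidHom, funext fun h => by rw [← hc]; rfl⟩]
  rw [← classInner_irr_self (⟨χ, hχ⟩ : IrrCharacter G), classInner, classInner,
    Nat.card_congr e.toEquiv]
  congr 1
  exact Fintype.sum_equiv e.toEquiv _ _ fun h => rfl

/-- The complex conjugate of an irreducible character is irreducible. -/
theorem isIrrCharacter_conj [Finite G] {χ : G → ℂ} (hχ : IsIrrCharacter G χ) :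
    IsIrrCharacter G (fun g => conj (χ g)) := by
  haveI := Fintype.ofFinite G
  rw [isIrrCharacter_iff_classInner_eq_one (isCharacter_star (isCharacter_of_isIrrCharacter hχ))]
  have h := congrArg conj (classInner_irr_self (⟨χ, hχ⟩ : IrrCharacter G))
  simpa [classInner, map_sum] using h

/-- A real character value is one fixed by conjugation. -/
theorem im_eq_zero_iff_inv [Finite G] (χ : IrrCharacter G) (g : G) :
    ((χ : G → ℂ) g).im = 0 ↔ (χ : G → ℂ) g⁻¹ = (χ : G → ℂ) g := by
  rw [irr_inv, Complex.conj_eq_iff_im]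

section Normal

variable [Finite G] (N : Subgroup G) [N.Normal]

/-- The conjugate of an irreducible character of a normal subgroup. -/
noncomputable def conjIrr (g : G) (θ : IrrCharacter N) : IrrCharacter N :=
  ⟨fun n => (θ : N → ℂ) (MulAut.conjNormal g⁻¹ n), isIrrCharacter_comp_equiv _ θ.2⟩

theorem conjIrr_apply (g : G) (θ : IrrCharacter N) (n : N) :
    (conjIrr N g θ : N → ℂ) n = (θ : N → ℂ) (MulAut.conjNormal g⁻¹ n) := rfl

theorem conjIrr_one (θ : IrrCharacter N) : conjIrr N 1 θ = θ :=
  Subtype.ext (funext fun n => by rw [conjIrr_apply, inv_one, map_one]; rfl)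

theorem conjIrr_mul (g h : G) (θ : IrrCharacter N) :
    conjIrr N (g * h) θ = conjIrr N g (conjIrr N h θ) :=
  Subtype.ext (funext fun n => by
    rw [conjIrr_apply, conjIrr_apply, conjIrr_apply, mul_inv_rev, map_mul]; rfl)

theorem conjIrr_eq_iff (g : G) (θ η : IrrCharacter N) :
    conjIrr N g θ = η ↔ ∀ n n' : N, (n' : G) = g * n * g⁻¹ → (η : N → ℂ) n' = (θ : N → ℂ) n := by
  constructor
  · rintro rfl n n' hn
    rw [conjIrr_apply, show MulAut.conjNormal g⁻¹ n' = n from Subtype.ext (by simp [hn, mul_assoc])]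
  · intro h
    refine Subtype.ext (funext fun n => ?_)
    rw [conjIrr_apply]
    exact (h _ n (by simp [mul_assoc])).symm

variable [Fintype G] [Fintype N]

/-- The inner product of the restriction of an induced character with an irreducible character. -/
theorem classInner_indFun_restrict (θ η : IrrCharacter N) :
    classInner (fun n : N => indFun N (θ : N → ℂ) n) (η : N → ℂ) =
      (Nat.card N : ℂ)⁻¹ * (Nat.card {x : G // conjIrr N x θ = η} : ℂ) := by
  have hind : (fun n : N => indFun N (θ : N → ℂ) n) =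
      (Nat.card N : ℂ)⁻¹ • ∑ x : G, (conjIrr N x θ : N → ℂ) := by
    funext n
    simp only [indFun, Pi.smul_apply, Finset.sum_apply, smul_eq_mul]
    congr 1
    refine Finset.sum_congr rfl fun x _ => ?_
    rw [conjIrr_apply, ← extendByZero_coe N (θ : N → ℂ) (MulAut.conjNormal x⁻¹ n)]
    congr 1
    simp
  rw [hind, classInner_smul_left, classInner_sum_left]
  simp only [classInner_irr]
  rw [Finset.sum_boole, Nat.card_eq_fintype_card (α := {x : G // conjIrr N x θ = η}),
    Fintype.card_subtype]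

/-- Constituents of the restriction of an irreducible character to a normal subgroup are
conjugate. -/
theorem exists_conjIrr_eq_of_constituents {χ : IrrCharacter G} {θ η : IrrCharacter N}
    (hθ : classInner (fun n : N => (χ : G → ℂ) n) (θ : N → ℂ) ≠ 0)
    (hη : classInner (fun n : N => (χ : G → ℂ) n) (η : N → ℂ) ≠ 0) :
    ∃ x : G, conjIrr N x θ = η := by
  suffices h : classInner (fun n : N => indFun N (θ : N → ℂ) n) (η : N → ℂ) ≠ 0 by
    rw [classInner_indFun_restrict, mul_ne_zero_iff, Nat.cast_ne_zero, Nat.card_ne_zero] at h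
    exact ⟨h.2.1.some.1, h.2.1.some.2⟩
  have hI := isCharacter_indFun N (θ := (θ : N → ℂ)) (irr_isCharacter θ)
  obtain ⟨m, hm⟩ := isCharacter_exists_nat_decomp hI
  have hmχ : (m χ : ℂ) = classInner (indFun N (θ : N → ℂ)) (χ : G → ℂ) := by
    rw [hm, classInner_sum_smul_irr]
  have hm0 : m χ ≠ 0 := by
    intro h0
    rw [classInner_indFun_left N _ _ (irr_isClassFunction χ), h0, Nat.cast_zero,
      ← conj_classInner] at hmχ
    exact hθ ((map_eq_zero _).1 hmχ.symm)
  have hres : (fun n : N => indFun N (θ : N → ℂ) n) =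
      ∑ ψ : IrrCharacter G, (m ψ : ℂ) • (fun n : N => (ψ : G → ℂ) n) := by
    funext n
    rw [hm]
    simp [Finset.sum_apply]
  have hnat : ∀ ψ : IrrCharacter G, ∃ k : ℕ,
      classInner (fun n : N => (ψ : G → ℂ) n) (η : N → ℂ) = k := fun ψ =>
    isCharacter_classInner_nat (isCharacter_restrict N (irr_isCharacter ψ)) (irr_isCharacter η)
  choose k hk using hnat
  rw [hres, classInner_sum_left]
  simp only [classInner_smul_left, hk]
  rw [show ∑ ψ, (m ψ : ℂ) * (k ψ : ℂ) = ((∑ ψ, m ψ * k ψ : ℕ) : ℂ) by push_cast; rfl,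
    Nat.cast_ne_zero, ← Nat.pos_iff_ne_zero]
  refine Finset.sum_pos' (fun _ _ => Nat.zero_le _) ⟨χ, Finset.mem_univ _, ?_⟩
  refine Nat.mul_pos (Nat.pos_of_ne_zero hm0) (Nat.pos_of_ne_zero fun h0 => hη ?_)
  rw [hk, h0, Nat.cast_zero]

end Normal

end Cfsg.Agent.Lib.CharSums
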