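import Cfsg.Prelude.Def_Characters
import Cfsg.Agent.Lib.CharSums.FixedPoints
import Mathlib

/-!
Real irreducible characters and a normal subgroup of odd index: orbit counts, and the
correspondence between real irreducible characters of the group and orbits of real irreducible
characters of the subgroup.
-/

set_option autoImplicit false
open Cfsg
open scoped ComplexConjugate

namespace Cfsg.Agent.Lib.CharSums

open Cfsg.Agent.Lib.Chars Classical

universe u
variable {G : Type u} [Group G] [Finite G] (K : Subgroup G) [K.Normal]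

/-- The real-valued irreducible characters. -/
abbrev RealIrr (G : Type u) [Group G] : Type u := {χ : IrrCharacter G // ∀ g : G, ((χ : G → ℂ) g).im = 0}

theorem pow_index_mem (u : G) : u ^ K.index ∈ K := by
  rw [← QuotientGroup.eq_one_iff, QuotientGroup.mk_pow, Subgroup.index, pow_card_eq_one']

theorem conjIrr_pow (u : G) (θ : IrrCharacter K) (h : conjIrr K u θ = θ) (n : ℕ) :
    conjIrr K (u ^ n) θ = θ := by
  induction n with
  | zero => rw [pow_zero, conjIrr_one]
  | succ n ih => rw [pow_succ, conjIrr_mul, h, ih]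

theorem conjIrr_of_mem (k : K) (θ : IrrCharacter K) : conjIrr K (k : G) θ = θ := by
  rw [conjIrr_eq_iff]
  intro n n' hn
  have : n' = k * n * k⁻¹ := Subtype.ext (by simpa using hn)
  rw [this, irr_isClassFunction θ n k]

variable (hodd : Odd K.index)
include hodd

/-- An element inverting `k` can be replaced by one in `K`. -/
theorem isConj_inv_of_inverts (u : G) (k : K) (hu : u * (k : G)⁻¹ * u⁻¹ = k) : IsConj k k⁻¹ := by
  have key : ∀ n : ℕ, u ^ n * (k : G) * (u ^ n)⁻¹ = if Even n then (k : G) else (k : G)⁻¹ := by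
    intro n
    induction n with
    | zero => simp
    | succ n ih =>
      have h1 : u * (k : G) * u⁻¹ = (k : G)⁻¹ := by
        have := congrArg (·⁻¹) hu
        simpa [mul_assoc] using this
      calc u ^ (n + 1) * (k : G) * (u ^ (n + 1))⁻¹ = u * (u ^ n * (k : G) * (u ^ n)⁻¹) * u⁻¹ := by group
        _ = _ := by
          rw [ih]
          by_cases hn : Even n
          · rw [if_pos hn, if_neg (Nat.not_even_iff_odd.2 hn.add_one), h1]
          · rw [if_neg hn, if_pos (Nat.not_even_iff_odd.1 hn).add_one, hu]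
  refine isConj_iff.2 ⟨⟨_, pow_index_mem K u⟩, Subtype.ext ?_⟩
  have := key K.index
  rw [if_neg (Nat.not_even_iff_odd.2 hodd)] at this
  simpa using this

/-- Elements conjugate in `G` to their inverse lie in `K`. -/
theorem mem_of_inverts (u g : G) (hu : u * g⁻¹ * u⁻¹ = g) : g ∈ K := by
  have key : ∀ n : ℕ, ((g : G ⧸ K)) = (u ^ n : G) * (if Even n then (g : G ⧸ K) else (g : G ⧸ K)⁻¹) * ((u ^ n : G) : G ⧸ K)⁻¹ := by
    intro n
    induction n with
    | zero => simp
    | succ n ih =>
      have h1 : (u : G ⧸ K) * (g : G ⧸ K)⁻¹ * (u : G ⧸ K)⁻¹ = (g : G ⧸ K) := by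
        exact congrArg (QuotientGroup.mk' K) hu
      have h2 : (u : G ⧸ K) * (g : G ⧸ K) * (u : G ⧸ K)⁻¹ = (g : G ⧸ K)⁻¹ := by
        have := congrArg (·⁻¹) h1
        simpa [mul_assoc] using this
      rw [pow_succ, QuotientGroup.mk_mul, mul_inv_rev]
      conv_lhs => rw [ih]
      by_cases hn : Even n
      · rw [if_pos hn, if_neg (Nat.not_even_iff_odd.2 hn.add_one)]
        conv_lhs => rw [← h1]
        group
      · rw [if_neg hn, if_pos (Nat.not_even_iff_odd.1 hn).add_one]
        conv_lhs => rw [← h2]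
        group
  have h := key K.index
  rw [if_neg (Nat.not_even_iff_odd.2 hodd), (QuotientGroup.eq_one_iff _).2 (pow_index_mem K u),
    one_mul, inv_one, mul_one] at h
  have h2 : (g : G ⧸ K) ^ 2 = 1 := by
    rw [pow_two]; nth_rewrite 1 [h]; exact inv_mul_cancel _
  have h3 : (g : G ⧸ K) ^ K.index = 1 := pow_card_eq_one'
  rw [← QuotientGroup.eq_one_iff]
  obtain ⟨m, hm⟩ := hodd
  rw [hm, pow_succ, pow_mul, h2, one_pow, one_mul] at h3
  exact h3

omit hodd in
/-- The equivalence between a pair and the shift by a coset representative. -/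
theorem card_cosets_shift (P : G → K → Prop) :
    ∑ᶠ g : G, Nat.card {p : K × K // P ((p.1 : G) * g) p.2} =
      Nat.card K * Nat.card {p : G × K // P p.1 p.2} := by
  haveI := Fintype.ofFinite G
  haveI := Fintype.ofFinite K
  rw [finsum_eq_sum_of_fintype, ← Nat.card_sigma, ← Nat.card_prod]
  exact Nat.card_congr
    { toFun := fun s => (s.2.1.1, ⟨((s.2.1.1 : G) * s.1, s.2.1.2), s.2.2⟩)
      invFun := fun t => ⟨(t.1 : G)⁻¹ * t.2.1.1, ⟨(t.1, t.2.1.2), by simpa using t.2.2⟩⟩
      left_inv := fun s => by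
        obtain ⟨g, ⟨h, k⟩, hp⟩ := s
        exact Sigma.subtype_ext (by simp) (by simp)
      right_inv := fun t => by
        obtain ⟨h, ⟨u, k⟩, hp⟩ := t
        simp }

/-- A character of `K` is fixed by conjugation composed with inversion iff it is fixed and real. -/
theorem fixed_iff (g : G) (θ : IrrCharacter K) :
    (∀ k : K, (θ : K → ℂ) ((MulAut.conjNormal g k)⁻¹) = (θ : K → ℂ) k) ↔
      (∀ k : K, ((θ : K → ℂ) k).im = 0) ∧ conjIrr K g⁻¹ θ = θ := by
  constructor
  · intro h
    have h1 : conjIrr K g⁻¹ θ = ⟨_, isIrrCharacter_conj θ.2⟩ := by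
      refine Subtype.ext (funext fun k => ?_)
      show _ = conj ((θ : K → ℂ) k)
      rw [conjIrr_apply, inv_inv, ← h k, irr_inv, Complex.conj_conj]
    have h2 : ∀ n : ℕ, conjIrr K (g⁻¹ ^ n) θ = if Even n then θ else ⟨_, isIrrCharacter_conj θ.2⟩ := by
      intro n
      induction n with
      | zero => rw [pow_zero, conjIrr_one, if_pos (by simp)]
      | succ n ih =>
        rw [pow_succ', conjIrr_mul, ih]
        by_cases hn : Even n
        · rw [if_pos hn, if_neg (Nat.not_even_iff_odd.2 hn.add_one), h1]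
        · rw [if_neg hn, if_pos (Nat.not_even_iff_odd.1 hn).add_one]
          refine Subtype.ext (funext fun k => ?_)
          rw [conjIrr_apply]
          show conj ((θ : K → ℂ) (MulAut.conjNormal g⁻¹⁻¹ k)) = _
          rw [inv_inv, ← irr_inv, h k]
    have h3 := h2 K.index
    rw [if_neg (Nat.not_even_iff_odd.2 hodd)] at h3
    rw [show g⁻¹ ^ K.index = ((⟨_, pow_index_mem K g⁻¹⟩ : K) : G) from rfl, conjIrr_of_mem] at h3
    refine ⟨fun k => Complex.conj_eq_iff_im.1 (congrFun (congrArg Subtype.val h3) k).symm, ?_⟩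
    rw [h1]
    exact h3.symm
  · rintro ⟨hre, hfix⟩ k
    rw [irr_inv, Complex.conj_eq_iff_im.2 (hre _)]
    have := congrFun (congrArg Subtype.val hfix) k
    rwa [conjIrr_apply, inv_inv] at this

omit hodd in
theorem im_conjIrr (g : G) (θ : RealIrr ↥K) (k : K) : ((conjIrr K g θ.1 : K → ℂ) k).im = 0 :=
  θ.2 _

/-- The `G`-action on the real irreducible characters of `K`. -/
noncomputable def realIrrAction : MulAction G (RealIrr ↥K) where
  smul g θ := ⟨conjIrr K g θ.1, im_conjIrr K g θ⟩
  one_smul θ := Subtype.ext (conjIrr_one K θ.1)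
  mul_smul g h θ := Subtype.ext (conjIrr_mul K g h θ.1)

/-- The number of orbits of `G` on real irreducible characters of `K`. -/
noncomputable def realOrbits : ℕ :=
  letI := realIrrAction K
  Nat.card (MulAction.orbitRel.Quotient G (RealIrr ↥K))

theorem realOrbits_mul_card :
    realOrbits K * Nat.card G = Nat.card {p : G × K // p.1 * (p.2 : G)⁻¹ * p.1⁻¹ = p.2} := by
  letI := realIrrAction K
  haveI := Fintype.ofFinite G
  haveI : Fintype (MulAction.orbitRel.Quotient G (RealIrr ↥K)) := Fintype.ofFinite _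
  have hB := MulAction.sum_card_fixedBy_eq_card_orbits_mul_card_group G (RealIrr ↥K)
  rw [realOrbits, Nat.card_eq_fintype_card, Nat.card_eq_fintype_card (α := G), ← hB]
  apply Nat.eq_of_mul_eq_mul_left (Nat.card_pos (α := K))
  rw [Finset.mul_sum, ← card_cosets_shift K (fun u k => u * (k : G)⁻¹ * u⁻¹ = k),
    finsum_eq_sum_of_fintype]
  refine Finset.sum_congr rfl fun g _ => ?_
  have hα : ∀ χ : IrrCharacter K,
      IsIrrCharacter K (fun k => (χ : K → ℂ) ((MulAut.conjNormal g k)⁻¹)) := by
    intro χ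
    have h := isIrrCharacter_conj (isIrrCharacter_comp_equiv (MulAut.conjNormal g : K ≃* K) χ.2)
    simpa only [← irr_inv] using h
  have hmain := card_mul_card_fixed (fun k : K => (MulAut.conjNormal g k)⁻¹) hα
  rw [← Nat.card_eq_fintype_card]
  refine Eq.trans (congrArg (Nat.card K * ·) ?_) (hmain.trans ?_)
  · refine Nat.card_congr
      { toFun := fun θ => ⟨θ.1.1, (fixed_iff K hodd g θ.1.1).2 ⟨θ.1.2, ?_⟩⟩
        invFun := fun θ => ⟨⟨θ.1, ((fixed_iff K hodd g θ.1).1 θ.2).1⟩, ?_⟩
        left_inv := fun _ => rfl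
        right_inv := fun _ => rfl }
    · have h := congrArg (fun φ => g⁻¹ • φ) θ.2
      simp only [inv_smul_smul] at h
      exact (congrArg Subtype.val h).symm
    · have h := ((fixed_iff K hodd g θ.1).1 θ.2).2
      refine Subtype.ext ?_
      show conjIrr K g θ.1 = θ.1
      conv_lhs => rw [← h]
      rw [← conjIrr_mul, mul_inv_cancel, conjIrr_one]
  · refine Nat.card_congr (Equiv.subtypeEquivRight fun p => ?_)
    rw [Subtype.ext_iff]
    simp [mul_assoc]

/-- The real irreducible characters of `G` are as many as the orbits. -/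
theorem card_realIrr : Nat.card (RealIrr G) = realOrbits K := by
  refine Nat.eq_of_mul_eq_mul_right (Nat.card_pos (α := G)) ?_
  rw [realOrbits_mul_card K hodd]
  have hα : ∀ χ : IrrCharacter G, IsIrrCharacter G (fun g => (χ : G → ℂ) g⁻¹) := fun χ => by
    simpa only [← irr_inv] using isIrrCharacter_conj χ.2
  have h := card_mul_card_fixed (fun g : G => g⁻¹) hα
  rw [mul_comm, Nat.card_congr (Equiv.subtypeEquivRight fun χ : IrrCharacter G =>
    (forall_congr' fun g => (im_eq_zero_iff_inv χ g).symm))] at h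
  rw [h]
  exact Nat.card_congr
    { toFun := fun p => ⟨(p.1.1, ⟨p.1.2, mem_of_inverts K hodd _ _ p.2⟩), p.2⟩
      invFun := fun p => ⟨(p.1.1, p.1.2), p.2⟩
      left_inv := fun _ => rfl
      right_inv := fun _ => rfl }

/-- Over every real irreducible character of `K` lies a real irreducible character of `G`. -/
theorem exists_real_over [Fintype K] (θ : RealIrr ↥K) :
    ∃ χ : RealIrr G, classInner (fun n : K => (χ.1 : G → ℂ) n) (θ.1 : K → ℂ) ≠ 0 := by
  haveI := Fintype.ofFinite G
  by_contra hno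
  simp only [not_exists, ne_eq, not_not] at hno
  have hnat : ∀ χ : IrrCharacter G, ∃ k : ℕ,
      classInner (fun n : K => (χ : G → ℂ) n) (θ.1 : K → ℂ) = k := fun χ =>
    isCharacter_classInner_nat (isCharacter_restrict K (irr_isCharacter χ)) (irr_isCharacter θ.1)
  choose e he using hnat
  let bar : IrrCharacter G → IrrCharacter G := fun χ => ⟨_, isIrrCharacter_conj χ.2⟩
  have hbar : ∀ χ, bar (bar χ) = χ := fun χ => Subtype.ext (funext fun g => Complex.conj_conj _)
  have hebar : ∀ χ, e (bar χ) = e χ := by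
    intro χ
    have h : classInner (fun n : K => (bar χ : G → ℂ) n) (θ.1 : K → ℂ) =
        conj (classInner (fun n : K => (χ : G → ℂ) n) (θ.1 : K → ℂ)) := by
      simp only [classInner, map_mul, map_inv₀, map_natCast, map_sum, Complex.conj_conj]
      congr 1
      refine Finset.sum_congr rfl fun n _ => ?_
      rw [Complex.conj_eq_iff_im.2 (θ.2 n)]
    rw [he, he, map_natCast] at h
    exact_mod_cast h
  -- the norm of the induced character
  have hsq : ((∑ χ, e χ * e χ : ℕ) : ℂ) =
      (Nat.card K : ℂ)⁻¹ * (Nat.card {x : G // conjIrr K x θ.1 = θ.1} : ℂ) := by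
    rw [← classInner_indFun_restrict]
    have hI := isCharacter_eq_sum_classInner (isCharacter_indFun K (θ := (θ.1 : K → ℂ)) (irr_isCharacter θ.1))
    have hc : ∀ χ : IrrCharacter G, classInner (indFun K (θ.1 : K → ℂ)) (χ : G → ℂ) = e χ := fun χ => by
      rw [classInner_indFun_left K _ _ (irr_isClassFunction χ), ← conj_classInner, he, map_natCast]
    rw [show (fun n : K => indFun K (θ.1 : K → ℂ) n) =
      ∑ χ, (e χ : ℂ) • (fun n : K => (χ : G → ℂ) n) by
        funext n
        conv_lhs => rw [hI]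
        simp [hc, Finset.sum_apply]]
    rw [classInner_sum_left]
    simp only [classInner_smul_left, he]
    push_cast
    rfl
  let T : Subgroup G :=
    { carrier := {x | conjIrr K x θ.1 = θ.1}
      one_mem' := conjIrr_one K _
      mul_mem' := fun {a b} ha hb => by
        show conjIrr K (a * b) θ.1 = θ.1
        rw [conjIrr_mul, hb, ha]
      inv_mem' := fun {a} ha => by
        show conjIrr K a⁻¹ θ.1 = θ.1
        conv_lhs => rw [← ha]
        rw [← conjIrr_mul, inv_mul_cancel, conjIrr_one] }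
  have hKT : K ≤ T := fun x hx => conjIrr_of_mem K ⟨x, hx⟩ θ.1
  rw [show Nat.card {x : G // conjIrr K x θ.1 = θ.1} = Nat.card K * K.relIndex T by
      rw [Subgroup.relIndex, ← Nat.card_congr (Subgroup.subgroupOfEquivOfLe hKT).toEquiv, Subgroup.card_mul_index]
      rfl,
    Nat.cast_mul, inv_mul_cancel_left₀ natCard_ne_zero, Nat.cast_inj] at hsq
  have hTodd : Odd (K.relIndex T) := hodd.of_dvd_nat (Subgroup.relIndex_dvd_index_of_le hKT)
  rw [← hsq] at hTodd
  have hzero : ((∑ χ, e χ * e χ : ℕ) : ZMod 2) = 0 := by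
    push_cast
    refine Finset.sum_involution (fun χ _ => bar χ) ?_ ?_ (fun χ _ => Finset.mem_univ _) (fun χ _ => hbar χ)
    · intro χ _
      rw [hebar]
      exact CharTwo.add_self_eq_zero _
    · intro χ _ hne hfix
      have hre : ∀ g, ((χ : G → ℂ) g).im = 0 := fun g =>
        Complex.conj_eq_iff_im.1 (congrFun (congrArg Subtype.val hfix) g)
      have h0 := hno ⟨χ, hre⟩
      rw [he, Nat.cast_eq_zero] at h0
      exact hne (by simp [h0])
  rw [ZMod.natCast_eq_zero_iff_even] at hzero
  exact (Nat.not_even_iff_odd.2 hTodd) hzero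

omit hodd in
theorem exists_conj_of_common [Fintype K] {χ : IrrCharacter G} (θ η : RealIrr ↥K)
    (h1 : classInner (fun n : K => (χ : G → ℂ) n) (θ.1 : K → ℂ) ≠ 0)
    (h2 : classInner (fun n : K => (χ : G → ℂ) n) (η.1 : K → ℂ) ≠ 0) :
    ∃ x : G, conjIrr K x θ.1 = η.1 := by
  haveI := Fintype.ofFinite G
  exact exists_conjIrr_eq_of_constituents K h1 h2

/-- Over every real irreducible character of `K` lies a unique real irreducible character of `G`. -/
theorem existsUnique_real_over [Fintype K] (θ : RealIrr ↥K) :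
    ∃! χ : RealIrr G, classInner (fun n : K => (χ.1 : G → ℂ) n) (θ.1 : K → ℂ) ≠ 0 := by
  letI := realIrrAction K
  haveI := Fintype.ofFinite G
  choose f hf using exists_real_over K hodd
  let F : MulAction.orbitRel.Quotient G (RealIrr ↥K) → RealIrr G := fun q => f q.out
  have hinv : ∀ (x : G) (η : RealIrr ↥K) (χ : IrrCharacter G),
      classInner (fun n : K => (χ : G → ℂ) n) ((x • η).1 : K → ℂ) =
        classInner (fun n : K => (χ : G → ℂ) n) (η.1 : K → ℂ) := by
    intro x η χ
    simp only [classInner]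
    congr 1
    refine Fintype.sum_equiv (MulAut.conjNormal x⁻¹).toEquiv _ _ fun n => ?_
    show (χ : G → ℂ) n * conj ((conjIrr K x η.1 : K → ℂ) n) = _
    rw [conjIrr_apply]
    congr 1
    show _ = (χ : G → ℂ) ((MulAut.conjNormal x⁻¹ n : K) : G)
    rw [MulAut.conjNormal_apply]
    exact (irr_isClassFunction χ _ _).symm
  have hFinj : Function.Injective F := by
    intro q₁ q₂ h
    have h1 := hf q₁.out
    have h2 := hf q₂.out
    rw [show f q₁.out = f q₂.out from h] at h1
    obtain ⟨x, hx⟩ := exists_conj_of_common K _ _ h1 h2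
    rw [← Quotient.out_eq q₁, ← Quotient.out_eq q₂]
    refine (Quotient.sound ?_).symm
    exact ⟨x, Subtype.ext hx⟩
  have hFbij : Function.Bijective F := by
    rw [Nat.bijective_iff_injective_and_card]
    exact ⟨hFinj, (card_realIrr K hodd).symm⟩
  refine ⟨f θ, hf θ, fun χ hχ => ?_⟩
  obtain ⟨q, rfl⟩ := hFbij.2 χ
  obtain ⟨q', hq'⟩ := hFbij.2 (f θ)
  obtain ⟨x, hx⟩ := exists_conj_of_common K _ _ (hf q.out) hχ
  have hθ' : classInner (fun n : K => ((F q').1 : G → ℂ) n) (θ.1 : K → ℂ) ≠ 0 := hq' ▸ hf θ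
  obtain ⟨y, hy⟩ := exists_conj_of_common K _ _ (hf q'.out) hθ'
  have e1 : θ = x • q.out := (Subtype.ext hx).symm
  have e2 : θ = y • q'.out := (Subtype.ext hy).symm
  have : q = q' := by
    rw [← Quotient.out_eq q, ← Quotient.out_eq q']
    refine Quotient.sound ⟨x⁻¹ * y, ?_⟩
    show (x⁻¹ * y) • q'.out = q.out
    rw [mul_smul, ← e2, e1, inv_smul_smul]
  rw [this, hq']

/-- Orbits of `G` on real elements of `K` are as many as orbits on real irreducible characters. -/
theorem card_orbits_real_elements :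
    Nat.card (Quot (fun x y : {x : ↥K // IsConj x x⁻¹} => ∃ g : G, (y.1 : G) = g * x.1 * g⁻¹)) =
      realOrbits K := by
  haveI := Fintype.ofFinite G
  have hreal : ∀ (g : G) (x : {x : ↥K // IsConj x x⁻¹}),
      IsConj (MulAut.conjNormal g x.1) (MulAut.conjNormal g x.1)⁻¹ := by
    intro g x
    rw [← map_inv]
    exact (MulAut.conjNormal g : K ≃* K).toMonoidHom.map_isConj x.2
  letI : MulAction G {x : ↥K // IsConj x x⁻¹} :=
    { smul := fun g x => ⟨MulAut.conjNormal g x.1, hreal g x⟩
      one_smul := fun x => Subtype.ext (by show MulAut.conjNormal (1 : G) x.1 = _; rw [map_one]; rfl)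
      mul_smul := fun g h x => Subtype.ext (by
        show MulAut.conjNormal (g * h) x.1 = _; rw [map_mul]; rfl) }
  haveI : Fintype (MulAction.orbitRel.Quotient G {x : ↥K // IsConj x x⁻¹}) := Fintype.ofFinite _
  have e : Quot (fun x y : {x : ↥K // IsConj x x⁻¹} => ∃ g : G, (y.1 : G) = g * x.1 * g⁻¹) ≃
      MulAction.orbitRel.Quotient G {x : ↥K // IsConj x x⁻¹} := by
    refine Quot.congrRight fun x y => ⟨?_, ?_⟩
    · rintro ⟨g, hg⟩
      refine (MulAction.orbitRel G {x : ↥K // IsConj x x⁻¹}).symm' ⟨g, Subtype.ext (Subtype.ext ?_)⟩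
      rw [hg]
      exact MulAut.conjNormal_apply g x.1
    · intro h
      obtain ⟨g, hg⟩ := (MulAction.orbitRel G {x : ↥K // IsConj x x⁻¹}).symm' h
      refine ⟨g, ?_⟩
      rw [← hg]
      exact MulAut.conjNormal_apply g x.1
  rw [Nat.card_congr e]
  refine Nat.eq_of_mul_eq_mul_right (Nat.card_pos (α := G)) ?_
  rw [realOrbits_mul_card K hodd]
  have hB := MulAction.sum_card_fixedBy_eq_card_orbits_mul_card_group G {x : ↥K // IsConj x x⁻¹}
  rw [Nat.card_eq_fintype_card, Nat.card_eq_fintype_card (α := G), ← hB]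
  simp only [← Nat.card_eq_fintype_card]
  rw [← Nat.card_sigma]
  have hr : ∀ x : {x : ↥K // IsConj x x⁻¹}, ∃ r : G, r * (x.1 : G) * r⁻¹ = (x.1 : G)⁻¹ := fun x => by
    obtain ⟨r, hr⟩ := isConj_iff.1 x.2
    exact ⟨r, by simpa using congrArg Subtype.val hr⟩
  choose r hr using hr
  refine Nat.card_congr
    { toFun := fun s => ⟨(s.1 * (r s.2.1)⁻¹, s.2.1.1), ?_⟩
      invFun := fun p => ⟨p.1.1 * r ⟨p.1.2, isConj_inv_of_inverts K hodd _ _ p.2⟩,
        ⟨⟨p.1.2, isConj_inv_of_inverts K hodd _ _ p.2⟩, ?_⟩⟩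
      left_inv := fun s => ?_
      right_inv := fun p => ?_ }
  · have hs : s.1 * (s.2.1.1 : G) * s.1⁻¹ = (s.2.1.1 : G) := by
      have := congrArg (fun y : {x : ↥K // IsConj x x⁻¹} => (y.1 : G)) s.2.2
      exact (MulAut.conjNormal_apply s.1 s.2.1.1).symm.trans this
    calc s.1 * (r s.2.1)⁻¹ * (s.2.1.1 : G)⁻¹ * (s.1 * (r s.2.1)⁻¹)⁻¹
        = s.1 * ((r s.2.1)⁻¹ * (s.2.1.1 : G)⁻¹ * r s.2.1) * s.1⁻¹ := by group
      _ = s.1 * (s.2.1.1 : G) * s.1⁻¹ := by rw [← hr s.2.1]; group
      _ = _ := hs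
  · refine Subtype.ext (Subtype.ext ?_)
    refine (MulAut.conjNormal_apply _ _).trans ?_
    have h := hr ⟨p.1.2, isConj_inv_of_inverts K hodd _ _ p.2⟩
    calc _ = p.1.1 * (r ⟨p.1.2, isConj_inv_of_inverts K hodd _ _ p.2⟩ * (p.1.2 : G) *
          (r ⟨p.1.2, isConj_inv_of_inverts K hodd _ _ p.2⟩)⁻¹) * p.1.1⁻¹ := by group
      _ = _ := by rw [h]; exact p.2
  · obtain ⟨g, x, hx⟩ := s
    exact Sigma.subtype_ext (by simp) rfl
  · obtain ⟨⟨u, k⟩, hp⟩ := p
    simp

end Cfsg.Agent.Lib.CharSums
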